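import Mathlib

/-!
# S4171 : every element of a finite simple group is a product of at most four involutions

Interface of the rows (classical half, exceptional half, sporadic half).

* `I4 G`  : every element of `G` is a product of four elements with square one;
* `W4 Z g` : `g` is a product of four elements of `G` whose squares are in `Z`, modulo `Z`;
* `W2 Z g` : the same with two elements ("strongly real modulo `Z`").

In a linear group take `Z` = the scalars (the centre).  `W4` and `W2` are invariant under conjugation,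
`W4.mul_mem` multiplies by elements of `Z`, `W2.mul` gives `W4` from two `W2`.
-/

set_option autoImplicit false

namespace Cfsg.Agent.H146.Inv4

/-- every element is a product of four elements with square one -/
def I4 (G : Type*) [Group G] : Prop :=
  ∀ g : G, ∃ t1 t2 t3 t4 : G, t1 * t1 = 1 ∧ t2 * t2 = 1 ∧ t3 * t3 = 1 ∧ t4 * t4 = 1 ∧
    g = t1 * t2 * t3 * t4

/-- `g` is, modulo `Z`, a product of four elements whose squares are in `Z` -/
def W4 {G : Type*} [Group G] (Z : Subgroup G) (g : G) : Prop :=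
  ∃ t1 t2 t3 t4 z : G, t1 * t1 ∈ Z ∧ t2 * t2 ∈ Z ∧ t3 * t3 ∈ Z ∧ t4 * t4 ∈ Z ∧ z ∈ Z ∧
    g = t1 * t2 * t3 * t4 * z

/-- `g` is, modulo `Z`, a product of two elements whose squares are in `Z` -/
def W2 {G : Type*} [Group G] (Z : Subgroup G) (g : G) : Prop :=
  ∃ t1 t2 z : G, t1 * t1 ∈ Z ∧ t2 * t2 ∈ Z ∧ z ∈ Z ∧ g = t1 * t2 * z

section

variable {G H : Type*} [Group G] [Group H] {Z : Subgroup G}

theorem W2.intro {s t : G} (hs : s * s ∈ Z) (ht : t * t ∈ Z) : W2 Z (s * t) :=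
  ⟨s, t, 1, hs, ht, Z.one_mem, by rw [mul_one]⟩

theorem W4.intro {t1 t2 t3 t4 : G} (h1 : t1 * t1 ∈ Z) (h2 : t2 * t2 ∈ Z) (h3 : t3 * t3 ∈ Z)
    (h4 : t4 * t4 ∈ Z) : W4 Z (t1 * t2 * t3 * t4) :=
  ⟨t1, t2, t3, t4, 1, h1, h2, h3, h4, Z.one_mem, by rw [mul_one]⟩

theorem W2.one : W2 Z (1 : G) := ⟨1, 1, 1, by simp, by simp, by simp, by simp⟩

theorem W4.of_W2 {g : G} (h : W2 Z g) : W4 Z g := by
  obtain ⟨s, t, z, hs, ht, hz, rfl⟩ := h
  exact ⟨s, t, 1, 1, z, hs, ht, by simp, by simp, hz, by simp⟩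

theorem W2.of_mem {g : G} (h : g ∈ Z) : W2 Z g := ⟨1, 1, g, by simp, by simp, h, by simp⟩

theorem W4.of_mem {g : G} (h : g ∈ Z) : W4 Z g := W4.of_W2 (W2.of_mem h)

theorem W2.mul_mem {g z : G} (h : W2 Z g) (hz : z ∈ Z) : W2 Z (g * z) := by
  obtain ⟨s, t, y, hs, ht, hy, rfl⟩ := h
  exact ⟨s, t, y * z, hs, ht, Z.mul_mem hy hz, by group⟩

theorem W4.mul_mem {g z : G} (h : W4 Z g) (hz : z ∈ Z) : W4 Z (g * z) := by
  obtain ⟨t1, t2, t3, t4, y, h1, h2, h3, h4, hy, rfl⟩ := h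
  exact ⟨t1, t2, t3, t4, y * z, h1, h2, h3, h4, Z.mul_mem hy hz, by group⟩

theorem W4.of_mul_mem {g z : G} (hz : z ∈ Z) (h : W4 Z (g * z)) : W4 Z g := by
  have := h.mul_mem (Z.inv_mem hz)
  rwa [mul_inv_cancel_right] at this

/-- product of two (central `Z`) -/
theorem W2.mul (hZ : Z ≤ Subgroup.center G) {a b : G} (ha : W2 Z a) (hb : W2 Z b) : W4 Z (a * b) := by
  obtain ⟨s, t, z, hs, ht, hz, rfl⟩ := ha
  obtain ⟨s', t', z', hs', ht', hz', rfl⟩ := hb
  refine ⟨s, t, s', t', z * z', hs, ht, hs', ht', Z.mul_mem hz hz', ?_⟩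
  have hc : ∀ x : G, x * z = z * x := fun x => (Subgroup.mem_center_iff.1 (hZ hz) x)
  calc s * t * z * (s' * t' * z') = s * t * (z * (s' * t')) * z' := by group
    _ = s * t * ((s' * t') * z) * z' := by rw [hc (s' * t')]
    _ = s * t * s' * t' * (z * z') := by group

theorem W2.map {Z' : Subgroup H} (f : G →* H) (hf : ∀ z ∈ Z, f z ∈ Z') {g : G} (h : W2 Z g) :
    W2 Z' (f g) := by
  obtain ⟨s, t, z, hs, ht, hz, rfl⟩ := h
  exact ⟨f s, f t, f z, by rw [← map_mul]; exact hf _ hs, by rw [← map_mul]; exact hf _ ht, hf _ hz,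
    by rw [map_mul, map_mul]⟩

theorem W4.map {Z' : Subgroup H} (f : G →* H) (hf : ∀ z ∈ Z, f z ∈ Z') {g : G} (h : W4 Z g) :
    W4 Z' (f g) := by
  obtain ⟨t1, t2, t3, t4, z, h1, h2, h3, h4, hz, rfl⟩ := h
  exact ⟨f t1, f t2, f t3, f t4, f z, by rw [← map_mul]; exact hf _ h1,
    by rw [← map_mul]; exact hf _ h2, by rw [← map_mul]; exact hf _ h3,
    by rw [← map_mul]; exact hf _ h4, hf _ hz, by simp [map_mul]⟩

theorem conj_mem_of_le_center (hZ : Z ≤ Subgroup.center G) (x : G) {z : G} (hz : z ∈ Z) :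
    x * z * x⁻¹ ∈ Z := by
  have : x * z = z * x := Subgroup.mem_center_iff.1 (hZ hz) x
  rw [this, mul_inv_cancel_right]; exact hz

theorem W2.conj (hZ : Z ≤ Subgroup.center G) {g : G} (h : W2 Z g) (x : G) : W2 Z (x * g * x⁻¹) := by
  have := W2.map (Z' := Z) (MulAut.conj x).toMonoidHom
    (fun z hz => by simpa using conj_mem_of_le_center hZ x hz) h
  simpa using this

theorem W4.conj (hZ : Z ≤ Subgroup.center G) {g : G} (h : W4 Z g) (x : G) : W4 Z (x * g * x⁻¹) := by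
  have := W4.map (Z' := Z) (MulAut.conj x).toMonoidHom
    (fun z hz => by simpa using conj_mem_of_le_center hZ x hz) h
  simpa using this

theorem W2.of_isConj (hZ : Z ≤ Subgroup.center G) {g g' : G} (h : W2 Z g) (e : IsConj g g') :
    W2 Z g' := by
  obtain ⟨x, rfl⟩ := isConj_iff.1 e
  exact h.conj hZ x

theorem W4.of_isConj (hZ : Z ≤ Subgroup.center G) {g g' : G} (h : W4 Z g) (e : IsConj g g') :
    W4 Z g' := by
  obtain ⟨x, rfl⟩ := isConj_iff.1 e
  exact h.conj hZ x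

theorem W2.inv (hZ : Z ≤ Subgroup.center G) {g : G} (h : W2 Z g) : W2 Z g⁻¹ := by
  obtain ⟨s, t, z, hs, ht, hz, rfl⟩ := h
  refine ⟨t⁻¹, s⁻¹, z⁻¹, ?_, ?_, Z.inv_mem hz, ?_⟩
  · rw [← mul_inv_rev]; exact Z.inv_mem ht
  · rw [← mul_inv_rev]; exact Z.inv_mem hs
  · have hc : ∀ x : G, x * z⁻¹ = z⁻¹ * x :=
      fun x => (Subgroup.mem_center_iff.1 (hZ (Z.inv_mem hz)) x)
    rw [mul_inv_rev, mul_inv_rev, ← hc]

/-- **inverted by an element `t` with `t² ∈ Z`** (the usual way to get `W2`): `t g t⁻¹ = g⁻¹ z`. -/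
theorem W2.of_inv (hZ : Z ≤ Subgroup.center G) {g t z : G} (ht : t * t ∈ Z) (hz : z ∈ Z)
    (h : t * g * t⁻¹ = g⁻¹ * z) : W2 Z g := by
  -- `g = t⁻¹ (t g)`
  refine ⟨t⁻¹, t * g, 1, ?_, ?_, Z.one_mem, by group⟩
  · rw [← mul_inv_rev]; exact Z.inv_mem ht
  · have h1 : t * g * (t * g) = (t * g * t⁻¹) * (t * t) * g := by group
    rw [h1, h]
    have hc : ∀ x : G, x * (t * t) = (t * t) * x := fun x => (Subgroup.mem_center_iff.1 (hZ ht) x)
    have hc' : ∀ x : G, x * z = z * x := fun x => (Subgroup.mem_center_iff.1 (hZ hz) x)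
    have h2 : g⁻¹ * z * (t * t) * g = z * (t * t) := by
      calc g⁻¹ * z * (t * t) * g = (g⁻¹ * z) * ((t * t) * g) := by group
        _ = (g⁻¹ * z) * (g * (t * t)) := by rw [← hc g]
        _ = g⁻¹ * (z * g) * (t * t) := by group
        _ = g⁻¹ * (g * z) * (t * t) := by rw [← hc' g]
        _ = z * (t * t) := by group
    rw [h2]
    exact Z.mul_mem hz ht

/-- quotients -/
theorem I4.of_surjective (f : G →* H) (hf : Function.Surjective f)
    (hZ : ∀ z ∈ Z, f z = 1) (h : ∀ g : G, W4 Z g) : I4 H := by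
  intro x
  obtain ⟨g, rfl⟩ := hf x
  obtain ⟨t1, t2, t3, t4, z, h1, h2, h3, h4, hz, rfl⟩ := h g
  exact ⟨f t1, f t2, f t3, f t4, by rw [← map_mul]; exact hZ _ h1, by rw [← map_mul]; exact hZ _ h2,
    by rw [← map_mul]; exact hZ _ h3, by rw [← map_mul]; exact hZ _ h4, by simp [map_mul, hZ _ hz]⟩

theorem I4.quot [Z.Normal] (h : ∀ g : G, W4 Z g) : I4 (G ⧸ Z) :=
  I4.of_surjective (QuotientGroup.mk' Z) (QuotientGroup.mk'_surjective Z)
    (fun z hz => (QuotientGroup.eq_one_iff z).2 hz) h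

theorem I4.congr (e : G ≃* H) (h : I4 G) : I4 H := by
  intro x
  obtain ⟨t1, t2, t3, t4, h1, h2, h3, h4, e1⟩ := h (e.symm x)
  refine ⟨e t1, e t2, e t3, e t4, by rw [← map_mul, h1, map_one], by rw [← map_mul, h2, map_one],
    by rw [← map_mul, h3, map_one], by rw [← map_mul, h4, map_one], ?_⟩
  rw [← map_mul, ← map_mul, ← map_mul, ← e1, MulEquiv.apply_symm_apply]

/-- all elements strongly real (`H721.SR.SR g`) -/
theorem I4.of_sr (h : ∀ g : G, ∃ t : G, t * t = 1 ∧ t * g * t⁻¹ = g⁻¹) : I4 G := by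
  intro g
  obtain ⟨t, h1, h2⟩ := h g
  have ht' : t⁻¹ = t := inv_eq_of_mul_eq_one_left h1
  refine ⟨t, t * g, 1, 1, h1, ?_, by simp, by simp, ?_⟩
  · calc t * g * (t * g) = (t * g * t⁻¹) * (t * t) * g := by group
      _ = 1 := by rw [h2, h1]; simp
  · rw [mul_one, mul_one, ← mul_assoc, h1, one_mul]

/-- a class `C` of strongly real elements with `C * C = G` -/
theorem I4.of_class (c : G) (hc : ∃ t : G, t * t = 1 ∧ t * c * t⁻¹ = c⁻¹)
    (h : ∀ g : G, ∃ a b : G, IsConj c a ∧ IsConj c b ∧ g = a * b) : I4 G := by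
  have key : ∀ a : G, IsConj c a → ∃ s t : G, s * s = 1 ∧ t * t = 1 ∧ a = s * t := by
    intro a ha
    obtain ⟨x, rfl⟩ := isConj_iff.1 ha
    obtain ⟨t, h1, h2⟩ := hc
    have ht' : t⁻¹ = t := inv_eq_of_mul_eq_one_left h1
    have h3 : t * c * (t * c) = 1 := by
      calc t * c * (t * c) = (t * c * t⁻¹) * (t * t) * c := by group
        _ = 1 := by rw [h2, h1]; simp
    refine ⟨x * t * x⁻¹, x * (t * c) * x⁻¹, ?_, ?_, ?_⟩
    · calc x * t * x⁻¹ * (x * t * x⁻¹) = x * (t * t) * x⁻¹ := by group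
        _ = 1 := by rw [h1]; simp
    · calc x * (t * c) * x⁻¹ * (x * (t * c) * x⁻¹) = x * (t * c * (t * c)) * x⁻¹ := by group
        _ = 1 := by rw [h3]; simp
    · calc x * c * x⁻¹ = x * (1 * c) * x⁻¹ := by rw [one_mul]
        _ = x * ((t * t) * c) * x⁻¹ := by rw [h1]
        _ = x * t * x⁻¹ * (x * (t * c) * x⁻¹) := by group
  intro g
  obtain ⟨a, b, ha, hb, rfl⟩ := h g
  obtain ⟨s, t, h1, h2, rfl⟩ := key a ha
  obtain ⟨s', t', h3, h4, rfl⟩ := key b hb
  exact ⟨s, t, s', t', h1, h2, h3, h4, by group⟩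

end

end Cfsg.Agent.H146.Inv4
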