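import Cfsg.Agent.H459.Ore.Frame
import Cfsg.Agent.H146.Inv4.Alt
import Cfsg.Agent.H253.FI.SLRow
import Cfsg.Agent.H253.FI.SpFour
import Cfsg.Agent.H113.Inv.Psu
import Cfsg.Agent.H900.Four.Rows

/-!
# S4171, the alternating and classical rows (modulo the three small unitary groups
`PSU₃(3)`, `PSU₄(2)`, `PSU₅(2)`: hypothesis `H113.Inv.Small`)
-/

set_option autoImplicit false

namespace Cfsg.Agent.H146.Inv4

universe u

/-- the alternating and classical rows for S4171 -/
theorem cls_rows_of (H : H113.Inv.Small) :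
    H459.Ore.ClsRows.{u} (fun G [Group G] => H777.Ore.Inv4 G) where
  alt h := i4_alt h
  psl h := H253.FI.i4_psl h
  psp h := H253.FI.i4_psp h
  psu h := H113.Inv.i4_psu_of H h
  poo h := H900.Four.i4_poodd h
  pop h := H900.Four.i4_poplus h
  pom h := H900.Four.i4_pominus h

/-- the alternating and classical rows for S4171 -/
theorem i4_classical_of (H : H113.Inv.Small) {G : Type u} [Group G]
    (h : IsAlternating G ∨ IsPSL G ∨ IsPSp G ∨ IsPSU G ∨ IsPOmegaOdd G ∨ IsPOmegaPlus G ∨
      IsPOmegaMinus G) : I4 G := by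
  rcases h with h | h | h | h | h | h | h
  · exact i4_alt h
  · exact H253.FI.i4_psl h
  · exact H253.FI.i4_psp h
  · exact H113.Inv.i4_psu_of H h
  · exact H900.Four.i4_poodd h
  · exact H900.Four.i4_poplus h
  · exact H900.Four.i4_pominus h

end Cfsg.Agent.H146.Inv4
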