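import Cfsg.Agent.H612.Ore.SpCover
import Cfsg.Agent.SporRec.TwoSp6.CInvol

/-!
# Every element of `2·Sp₆(2)` is a product of three elements with square one

Every element of `Sp₆(2)` is a product of three elements each of which is one or a product of three distinct
orthogonal transvections (`three`; thirty explicit class representatives of `H612.Ore.SpCover`); the lifts of such
products to the non-split double cover have square one (`NS.three`).
-/

set_option autoImplicit false

namespace Cfsg.Agent.H146.Inv4.SpSix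

open Cfsg Cfsg.Agent.ClassicalGeometry.SympBasic Cfsg.Agent.H612.Ore
open Cfsg.Agent.SporRec.TwoSp6.Lift Cfsg.Agent.SporRec.TwoSp6.CInvol
open Cfsg.Agent.SporRec.TwoSp6.Sp (V S om tr act act_one act_mul act_ext act_add act_om act_tr enc enc_xor om_enc
  fN exists_enc conj_tr)

/-- one, or a product of three distinct orthogonal transvections -/
def Bl (a : S) : Prop := a = 1 ∨ ∃ u v w : V, u ≠ 0 ∧ v ≠ 0 ∧ w ≠ 0 ∧ v ≠ u ∧ w ≠ u ∧ w ≠ v ∧
  om u v = 0 ∧ om u w = 0 ∧ om v w = 0 ∧ a = tr u * tr v * tr w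

theorem act_inj (g : S) {x y : V} (h : act g x = act g y) : x = y := by
  have h1 := congrArg (act g⁻¹) h
  rwa [← act_mul, ← act_mul, inv_mul_cancel, act_one, act_one] at h1

theorem act_z (g : S) : act g 0 = 0 := Matrix.mulVec_zero _

theorem act_ne (g : S) {x : V} (h : x ≠ 0) : act g x ≠ 0 := by
  intro h1
  apply h
  apply act_inj g
  rw [h1, act_z]

theorem Bl.conj {a : S} (h : Bl a) (g : S) : Bl (g * a * g⁻¹) := by
  rcases h with rfl | ⟨u, v, w, hu, hv, hw, h1, h2, h3, o1, o2, o3, rfl⟩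
  · left; group
  · right
    refine ⟨act g u, act g v, act g w, act_ne g hu, act_ne g hv, act_ne g hw, fun h => h1 (act_inj g h),
      fun h => h2 (act_inj g h), fun h => h3 (act_inj g h), by rw [act_om, o1], by rw [act_om, o2],
      by rw [act_om, o3], ?_⟩
    rw [← conj_tr, ← conj_tr, ← conj_tr]
    group

/-- product of transvections with codes -/
def wt (l : List ℕ) : S := (l.map fun u => tr (enc u)).prod

theorem wt_append (a b : List ℕ) : wt (a ++ b) = wt a * wt b := by
  rw [wt, List.map_append, List.prod_append]; rfl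

/-- one transvection on codes -/
def sg (u v : ℕ) : ℕ := bif B6 v u then v ^^^ u else v

/-- a word on codes -/
def wg (l : List ℕ) (v : ℕ) : ℕ := l.foldr sg v

theorem ap_tr {u : ℕ} (hu : u < 64) {v : ℕ} (hv : v < 64) : spAct.ap (tr (enc u)) v = sg u v := by
  rw [spAct_ap, act_tr, sg]
  have h := B6_om hv hu
  have hlt : v ^^^ u < 64 := Nat.xor_lt_two_pow (n := 6) hv hu
  by_cases h1 : om (enc v) (enc u) = 1
  · rw [h, decide_eq_true h1, cond_true, h1, one_smul, ← enc_xor, cd_enc _ hlt]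
  · have h0 : om (enc v) (enc u) = 0 := by
      rcases Cfsg.Agent.SporRec.TwoSp6.Sp.om_cases (enc v) (enc u) with h2 | h2
      · exact h2
      · exact absurd h2 h1
    rw [h, decide_eq_false h1, cond_false, h0, zero_smul, add_zero, cd_enc _ hv]

theorem ap_wt {l : List ℕ} (hl : ∀ u ∈ l, u < 64) {v : ℕ} (hv : v < 64) :
    spAct.ap (wt l) v = wg l v := by
  induction l with
  | nil => exact spAct.one v hv
  | cons j w ih =>
    have e : wt (j :: w) = tr (enc j) * wt w := by rw [wt, List.map_cons, List.prod_cons]; rfl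
    have ih' := ih (fun u hu => hl u (List.mem_cons_of_mem _ hu))
    rw [e, spAct.mul _ _ _ hv, ih', ap_tr (hl j List.mem_cons_self)]
    · rfl
    · rw [← ih']; exact spAct.lt _ _ hv

/-- the check of a block -/
def okT : List ℕ → Bool
  | [] => true
  | [a, b, c] => Nat.blt 0 a && Nat.blt 0 b && Nat.blt 0 c && Nat.blt a 64 && Nat.blt b 64 && Nat.blt c 64 &&
      !(Nat.beq b a) && !(Nat.beq c a) && !(Nat.beq c b) && !(B6 a b) && !(B6 a c) && !(B6 b c)
  | _ => false

theorem enc_zero : enc 0 = 0 := by decide +kernel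

theorem bl_of {l : List ℕ} (h : okT l = true) : Bl (wt l) ∧ ∀ u ∈ l, u < 64 := by
  rcases l with _ | ⟨a, _ | ⟨b, _ | ⟨c, _ | ⟨d, l⟩⟩⟩⟩
  · exact ⟨Or.inl rfl, fun u hu => absurd hu List.not_mem_nil⟩
  · exact absurd h (by simp [okT])
  · exact absurd h (by simp [okT])
  · simp only [okT, Bool.and_eq_true, Bool.not_eq_true', ← Bool.not_eq_true, Nat.beq_eq] at h
    obtain ⟨⟨⟨⟨⟨⟨⟨⟨⟨⟨⟨ha0, hb0⟩, hc0⟩, ha⟩, hb⟩, hc⟩, h1⟩, h2⟩, h3⟩, o1⟩, o2⟩, o3⟩ := h
    have lt : ∀ {x y : ℕ}, Nat.blt x y = true → x < y := fun {x y} h => Nat.le_of_ble_eq_true h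
    have ha0 := lt ha0
    have hb0 := lt hb0
    have hc0 := lt hc0
    have ha := lt ha
    have hb := lt hb
    have hc := lt hc
    have ne : ∀ {x : ℕ}, 0 < x → x < 64 → enc x ≠ 0 := by
      intro x hx hx' h
      rw [← enc_zero] at h
      exact hx.ne' (enc_inj hx' (by norm_num) h)
    have orth : ∀ {x y : ℕ}, x < 64 → y < 64 → ¬ B6 x y = true → om (enc x) (enc y) = 0 := by
      intro x y hx hy h
      rw [B6_om hx hy, decide_eq_true_eq] at h
      exact (Cfsg.Agent.SporRec.TwoSp6.Sp.om_cases _ _).resolve_right h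
    refine ⟨Or.inr ⟨enc a, enc b, enc c, ne ha0 ha, ne hb0 hb, ne hc0 hc, fun h => h1 (enc_inj hb ha h),
      fun h => h2 (enc_inj hc ha h), fun h => h3 (enc_inj hc hb h), orth ha hb o1, orth ha hc o2,
      orth hb hc o3, ?_⟩, ?_⟩
    · simp [wt, mul_assoc]
    · intro u hu
      simp only [List.mem_cons, List.not_mem_nil, or_false] at hu
      rcases hu with rfl | rfl | rfl
      · exact ha
      · exact hb
      · exact hc
  · exact absurd h (by simp [okT])

/-- the decompositions of the thirty representatives -/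
def dd : List (List (List ℕ)) := [[[], [], []], [[2, 3, 4], [5, 6, 7], []], [[1, 2, 4], [2, 4, 9], []],
  [[1, 2, 4], [2, 3, 4], []], [[2, 4, 9], [6, 12, 14], []], [[1, 4, 16], [13, 25, 29], []], [[1, 3, 32], [], []],
  [[4, 16, 20], [], []], [[1, 4, 23], [4, 9, 20], []], [[1, 2, 3], [2, 9, 32], []], [[1, 16, 20], [9, 16, 52], []],
  [[1, 4, 16], [9, 16, 20], []], [[1, 3, 5], [12, 26, 30], []], [[1, 3, 4], [1, 19, 23], []],
  [[2, 40, 42], [11, 30, 34], []], [[1, 4, 23], [3, 4, 30], [4, 10, 23]], [[1, 4, 7], [13, 25, 29], []],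
  [[2, 4, 9], [34, 40, 42], []], [[5, 44, 57], [28, 33, 61], []], [[1, 3, 36], [5, 18, 22], []],
  [[1, 51, 52], [9, 32, 48], []], [[1, 20, 39], [9, 16, 52], []], [[1, 4, 19], [9, 16, 32], []],
  [[1, 4, 20], [9, 16, 52], []], [[1, 5, 19], [15, 26, 30], []], [[1, 35, 52], [25, 41, 57], []],
  [[1, 5, 19], [11, 17, 21], []], [[3, 4, 31], [12, 20, 63], []], [[1, 5, 20], [13, 27, 49], []],
  [[2, 9, 13], [16, 32, 40], []]]

/-- the `j`-th block of the `i`-th representative -/
def db (i j : ℕ) : List ℕ := (dd.getD i []).getD j []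

theorem dd_ok : ((List.range 30).all fun i => okT (db i 0) && okT (db i 1) && okT (db i 2) &&
    (List.range 6).all fun k => wg (db i 0 ++ db i 1 ++ db i 2) (2 ^ k) == col 6 (reps.getD i 0) k) = true := by
  decide +kernel

/-- **every element of `Sp₆(2)` is a product of three blocks** -/
theorem three (g : S) : ∃ a b c : S, Bl a ∧ Bl b ∧ Bl c ∧ g = a * b * c := by
  obtain ⟨i, hi, h, e⟩ := exists_rep30 g
  have hd := List.all_eq_true.1 dd_ok i (List.mem_range.2 hi)
  rw [Bool.and_eq_true, Bool.and_eq_true, Bool.and_eq_true] at hd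
  obtain ⟨⟨⟨h0, h1⟩, h2⟩, h3⟩ := hd
  obtain ⟨b0, l0⟩ := bl_of h0
  obtain ⟨b1, l1⟩ := bl_of h1
  obtain ⟨b2, l2⟩ := bl_of h2
  have e1 : wd tv (rws.getD i []) = wt (db i 0) * wt (db i 1) * wt (db i 2) := by
    rw [← wt_append, ← wt_append]
    apply spAct.ext
    intro k hk
    rw [rep_r hi k hk, ap_wt _ (two_pow_lt (n := 6) hk)]
    · exact (eq_of_beq (List.all_eq_true.1 h3 k (List.mem_range.2 hk))).symm
    · intro u hu
      rcases List.mem_append.1 hu with hu | hu
      · rcases List.mem_append.1 hu with hu | hu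
        · exact l0 u hu
        · exact l1 u hu
      · exact l2 u hu
  refine ⟨_, _, _, b0.conj h⁻¹, b1.conj h⁻¹, b2.conj h⁻¹, ?_⟩
  have e2 : g = h⁻¹ * (h * g * h⁻¹) * h := by group
  rw [e2, e, e1]
  group

section Lift

variable {C : Type*} [Group C] {z : C} {π : C →* S}

theorem lift_block (N : NS z π) {a : S} (h : Bl a) : ∃ x : C, π x = a ∧ x * x = 1 := by
  rcases h with rfl | ⟨u, v, w, hu, hv, hw, h1, h2, h3, o1, o2, o3, rfl⟩
  · exact ⟨1, map_one π, one_mul 1⟩
  · obtain ⟨x, hx⟩ := N.surj (tr u * tr v * tr w)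
    exact ⟨x, hx, N.sq_three hu hv h1 hw h2 h3 o1 o2 o3 hx⟩

/-- **every element of `2·Sp₆(2)` is a product of three elements with square one** -/
theorem three_cover (N : NS z π) (m : C) : ∃ a b c : C, a * a = 1 ∧ b * b = 1 ∧ c * c = 1 ∧ m = a * b * c := by
  obtain ⟨a, b, c, ha, hb, hc, e⟩ := three (π m)
  obtain ⟨x, hx, hx2⟩ := lift_block N ha
  obtain ⟨y, hy, hy2⟩ := lift_block N hb
  obtain ⟨t, ht, ht2⟩ := lift_block N hc
  have h1 : π (x * y * t) = π m := by rw [map_mul, map_mul, hx, hy, ht, e]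
  rcases N.toExt.eq_or h1 with h | h
  · exact ⟨x, y, t, hx2, hy2, ht2, h⟩
  · refine ⟨z * x, y, t, ?_, hy2, ht2, ?_⟩
    · rw [N.toExt.z_mul_sq, hx2]
    · rw [h]; group

end Lift

end Cfsg.Agent.H146.Inv4.SpSix
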