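import Cfsg.Agent.H146.Inv4.Base
import Cfsg.Agent.H146.Inv4.SpSix
import Cfsg.Agent.KFacts.Co3.Syl
import Cfsg.Agent.SporRec.Co3.Model
import Cfsg.Agent.H777.Ore.Base

/-!
# S4171, row `Co₃`

`Co₃` is the union of seven double cosets `M g M` of the centraliser `M = 2·Sp₆(2)` of an involution, each of them
contains an involution `t`, so every element is conjugate to `t * m` with `m ∈ M`, and `m` is a product of three
elements with square one (`SpSix`).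
-/

set_option autoImplicit false
set_option Elab.async false

namespace Cfsg.Agent.H146.Inv4.CoThree

open Cfsg Cfsg.Agent.SporRec.TwoSp6.Model Cfsg.Agent.SporRec.Co3DC Cfsg.Agent.SporRec.Co3DC.Bound
  Cfsg.Agent.SporRec.Co3DC.Final Cfsg.Agent.SporRec.Co3DC.Count Cfsg.Agent.SporRec.Co3.Chain
  Cfsg.Agent.SporRec.Co3.ChainData Cfsg.Agent.SporRec.Co3.Ident Cfsg.Agent.SporRec.LeechChain
  Cfsg.Agent.SporRec.LeechMod3 Cfsg.Agent.LeechMat.Core Cfsg.Agent.Lib.PackMat Cfsg.Agent.KFacts.Co3.Cent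

/-- words in `M` such that `gW k * mW k` has square one -/
def mW : ℕ → List ℕ
  | 0 => []
  | 1 => [7, 0]
  | 2 => [7, 3, 4, 5, 6, 1, 3, 4, 5, 2, 1]
  | 3 => [7, 0]
  | 4 => [7, 3, 4, 5, 6, 1, 3, 4, 5, 3, 4, 1, 3]
  | 5 => [4, 5, 6, 5, 4, 0, 2, 0]
  | _ => [0, 2, 3, 4, 5, 6, 5, 4, 3, 0, 2, 1, 3, 4, 5, 4, 3, 0, 2, 1, 3, 4, 2, 3, 0, 2, 1, 3, 2, 0]

theorem sq_chk : ∀ k : Fin 7, chk ((gW k ++ mW k) ++ (gW k ++ mW k)) [] = true := by decide +kernel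

theorem mW_le : ∀ k : Fin 7, ((mW k).all fun k => Nat.ble k 7) = true := by decide

theorem sq_one {k : ℕ} (hk : k < 7) :
    (gg phi0 W0 k * phi0 (W (mW k))) * (gg phi0 W0 k * phi0 (W (mW k))) = 1 := by
  have h := mw_eq (sq_chk ⟨k, hk⟩)
  rw [mw_nil, mw_append, mw_append, ← gg_eq k hk, ← phi0_W (mW_le ⟨k, hk⟩)] at h
  exact h

theorem exists_ns : ∃ π : M →* Cfsg.Agent.SporRec.TwoSp6.Sp.S, Cfsg.Agent.SporRec.TwoSp6.CInvol.NS z π := by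
  obtain ⟨π, h1, h2⟩ := Cfsg.Agent.KFacts.Co3.AutM.exists_pi
  exact ⟨π, Cfsg.Agent.SporRec.TwoSp6.CInvol.NS.of_rels h2 h1 rels⟩

theorem i4_g3 : I4 G3 := by
  intro x
  obtain ⟨π, N⟩ := exists_ns
  obtain ⟨k, hk, a, b, e⟩ := exists_rep x
  obtain ⟨c1, c2, c3, h1, h2, h3, hm⟩ := SpSix.three_cover N ((W (mW k))⁻¹ * b * a)
  have ht := sq_one hk
  set t := gg phi0 W0 k * phi0 (W (mW k)) with htd
  have key : (phi0 a)⁻¹ * x * phi0 a = t * phi0 c1 * phi0 c2 * phi0 c3 := by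
    have e1 : phi0 c1 * phi0 c2 * phi0 c3 = (phi0 (W (mW k)))⁻¹ * phi0 b * phi0 a := by
      rw [← map_mul, ← map_mul, ← hm, map_mul, map_mul, map_inv]
    rw [mul_assoc t, mul_assoc t, e1, e, htd]
    group
  have hs : ∀ {y : G3} (p : G3), y * y = 1 → (p * y * p⁻¹) * (p * y * p⁻¹) = 1 := by
    intro y p hy
    rw [show (p * y * p⁻¹) * (p * y * p⁻¹) = p * (y * y) * p⁻¹ by group, hy]; group
  have hc : ∀ {c : M}, c * c = 1 → phi0 c * phi0 c = 1 := by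
    intro c hc
    rw [← map_mul, hc, map_one]
  refine ⟨phi0 a * t * (phi0 a)⁻¹, phi0 a * phi0 c1 * (phi0 a)⁻¹, phi0 a * phi0 c2 * (phi0 a)⁻¹,
    phi0 a * phi0 c3 * (phi0 a)⁻¹, hs _ ht, hs _ (hc h1), hs _ (hc h2), hs _ (hc h3), ?_⟩
  have : x = phi0 a * ((phi0 a)⁻¹ * x * phi0 a) * (phi0 a)⁻¹ := by group
  rw [this, key]
  group

/-- **row `Co₃`** -/
theorem i4_co3 {G : Type*} [Group G] (h : Spor.IsoCo3 G) : I4 G := by
  obtain ⟨e⟩ := h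
  exact I4.congr (Cfsg.Agent.SporRec.Co3.Model.equivCo3.trans e.symm) i4_g3

/-- **row `Co₃`**, in the form of `H777.Ore` -/
theorem four_co3 {G : Type*} [Group G] (h : Spor.IsoCo3 G) : Cfsg.Agent.H777.Ore.Inv4 G := i4_co3 h

end Cfsg.Agent.H146.Inv4.CoThree
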