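import Cfsg.Agent.H146.Inv4.Base
import Cfsg.Agent.H146.OreOdd
import Cfsg.Agent.LieClassical.OmegaReindex

/-!
# S4171, orthogonal groups over finite fields of odd order: products of four involutions
-/

set_option autoImplicit false
set_option linter.unusedSectionVars false

universe u v

namespace Cfsg.Agent.H146.Inv4

open Module QuadraticMap Cfsg.Agent.H146.Ore
open Cfsg.Agent.ClassicalGeometry.Reflection Cfsg.Agent.ClassicalGeometry.SpinorSign
  Cfsg.Agent.ClassicalGeometry.OmegaIndex Cfsg.Agent.ClassicalGeometry.Universal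
  Cfsg.Agent.ClassicalGeometry.CartanDieudonne Cfsg.Agent.ClassicalGeometry.GenReflections

theorem sq_mul {G : Type*} [Group G] {a b : G} (ha : a * a = 1) (hb : b * b = 1) (h : Commute a b) :
    a * b * (a * b) = 1 := by
  calc a * b * (a * b) = a * (b * a) * b := by group
    _ = a * (a * b) * b := by rw [h.eq]
    _ = (a * a) * (b * b) := by group
    _ = 1 := by rw [ha, hb, one_mul]

variable {ι : Type} [Fintype ι] [DecidableEq ι] {F : Type u} [Field F]

section G

variable {Q : QuadraticForm F (ι → F)} [Finite F]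

theorem le_span {u z : ι → F} : z ∈ Pp Q (Submodule.span F {u}) ↔ polar (⇑Q) u z = 0 := by
  constructor
  · intro h
    exact h u (Submodule.mem_span_singleton_self u)
  · intro h y hy
    obtain ⟨c, rfl⟩ := Submodule.mem_span_singleton.1 hy
    rw [polar_smul_left, h, smul_zero]

/-- cutting a subspace by a nonsingular vector -/
theorem cut (h2 : (2 : F) ≠ 0) (W : Submodule F (ι → F)) {u : ι → F} (hu : u ∈ W) (hu0 : Q u ≠ 0) :
    ∃ W' ≤ W, (∀ x ∈ W', polar (⇑Q) u x = 0) ∧ W' ⊓ Pp Q W' ≤ W ⊓ Pp Q W ∧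
      finrank F W ≤ finrank F W' + 1 := by
  have hdec : W ≤ (W ⊓ Pp Q (Submodule.span F {u})) ⊔ Submodule.span F {u} := by
    intro z hz
    have : z = (z - ((2 * Q u)⁻¹ * polar (⇑Q) u z) • u) + ((2 * Q u)⁻¹ * polar (⇑Q) u z) • u := by abel
    rw [this]
    refine Submodule.add_mem_sup ⟨W.sub_mem hz (W.smul_mem _ hu), ?_⟩
      (Submodule.smul_mem _ _ (Submodule.mem_span_singleton_self u))
    rw [SetLike.mem_coe, le_span]
    rw [polar_sub_right, polar_smul_right, polar_eq_two, smul_eq_mul]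
    have : (2 * Q u) ≠ 0 := mul_ne_zero h2 hu0
    field_simp
    ring
  refine ⟨W ⊓ Pp Q (Submodule.span F {u}), inf_le_left, fun x hx => le_span.1 hx.2, ?_, ?_⟩
  · rintro z ⟨hz, hz'⟩
    refine ⟨hz.1, fun y hy => ?_⟩
    obtain ⟨a, ha, b, hb, rfl⟩ := Submodule.mem_sup.1 (hdec hy)
    obtain ⟨c, rfl⟩ := Submodule.mem_span_singleton.1 hb
    rw [polar_add_left, polar_smul_left, le_span.1 hz.2, hz' a ha, smul_zero, add_zero]
  · have h4 := Submodule.finrank_mono hdec
    have h5 := Submodule.finrank_add_le_finrank_add_finrank (W ⊓ Pp Q (Submodule.span F {u}))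
      (Submodule.span F {u})
    have h6 : finrank F (Submodule.span F {u}) ≤ 1 :=
      (finrank_span_le_card ({u} : Set (ι → F))).trans (by simp)
    omega

/-- adding an orthogonal nonsingular vector to a nondegenerate subspace -/
theorem glue (h2 : (2 : F) ≠ 0) {U : Submodule F (ι → F)} (hU : U ⊓ Pp Q U = ⊥) {b : ι → F}
    (hb : b ∈ Pp Q U) (hb0 : Q b ≠ 0) :
    (U ⊔ Submodule.span F {b}) ⊓ Pp Q (U ⊔ Submodule.span F {b}) = ⊥ := by
  rw [eq_bot_iff]
  rintro z ⟨hz, hz'⟩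
  rw [SetLike.mem_coe, Pp_sup] at hz'
  obtain ⟨a, ha, w, hw, rfl⟩ := Submodule.mem_sup.1 hz
  obtain ⟨c, rfl⟩ := Submodule.mem_span_singleton.1 hw
  have hab : polar (⇑Q) b a = 0 := by rw [polar_comm]; exact hb a ha
  have h1 := hz'.2
  rw [polar_add_right, polar_smul_right, hab, polar_eq_two, zero_add, smul_eq_mul] at h1
  have hc : c = 0 := (mul_eq_zero.1 h1).resolve_right (mul_ne_zero h2 hb0)
  rw [hc, zero_smul, add_zero] at hz' ⊢
  have : a ∈ U ⊓ Pp Q U := ⟨ha, hz'.1⟩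
  rwa [hU] at this

theorem commute_refl' {y : Cfsg.isometryGroup F (⇑Q)} {a : ι → F} (ha : Q a ≠ 0)
    (h : act Q y a = a ∨ act Q y a = -a) : Commute (reflIso Q a ha) y := by
  have := conj_refl ha ha y h
  rw [mul_inv_eq_iff_eq_mul] at this
  exact this.symm

theorem commute_perp {a b : ι → F} (ha : Q a ≠ 0) (hb : Q b ≠ 0) (h : polar (⇑Q) a b = 0) :
    Commute (reflIso Q b hb) (reflIso Q a ha) :=
  commute_refl' hb (Or.inl (act_refl_of_perp ha h))

/-- a large eigenspace of an involution -/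
theorem eig (h2 : (2 : F) ≠ 0) (hQ : (polarBilin Q).Nondegenerate) {s : Cfsg.isometryGroup F (⇑Q)}
    (hs : s * s = 1) : ∃ E : Submodule F (ι → F), Fintype.card ι ≤ 2 * finrank F E ∧
      E ⊓ Pp Q E = ⊥ ∧ ∀ x ∈ E, ∀ hx : Q x ≠ 0, Commute (reflIso Q x hx) s := by
  have h1 := finrank_Em_neg h2 hs
  have hs' : negI Q * s * (negI Q * s) = 1 := by
    rw [show negI Q * s * (negI Q * s) = negI Q * (s * negI Q) * s by group, ← negI_comm,
        show negI Q * (negI Q * s) * s = (negI Q * negI Q) * (s * s) by group, negI_mul_negI, hs, one_mul]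
  rcases le_total (finrank F (Em Q (negI Q * s))) (finrank F (Em Q s)) with h | h
  · exact ⟨Em Q s, by omega, Em_nondeg h2 hQ hs, fun x hx hx0 => commute_refl' hx0 (Or.inr hx)⟩
  · exact ⟨Em Q (negI Q * s), by omega, Em_nondeg h2 hQ hs',
      fun x hx hx0 => commute_refl' hx0 (Or.inl (mem_Em_neg.1 hx))⟩

/-- reflections of both classes in a subspace of rank at least two -/
theorem exists_refl (h2 : (2 : F) ≠ 0) {W : Submodule F (ι → F)}
    (hW : finrank F (W ⊓ Pp Q W : Submodule F (ι → F)) + 2 ≤ finrank F W) (σ : ℤˣ) :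
    ∃ a ∈ W, ∃ ha : Q a ≠ 0, del Q (reflIso Q a ha) = (-1, σ) := by
  classical
  rcases sign_cases σ with rfl | rfl
  · obtain ⟨k, hk⟩ := FiniteField.exists_nonsquare (ringChar_ne_two h2)
    have hk0 : k ≠ 0 := by rintro rfl; exact hk IsSquare.zero
    obtain ⟨a, ha, hak⟩ := rep h2 hW k
    refine ⟨a, ha, by rw [hak]; exact hk0, ?_⟩
    rw [del_refl h2, if_neg (by rw [hak]; exact hk)]
  · obtain ⟨a, ha, hak⟩ := rep h2 hW 1
    refine ⟨a, ha, by rw [hak]; exact one_ne_zero, ?_⟩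
    rw [del_refl h2, if_pos (by rw [hak]; exact IsSquare.one)]

/-- the conclusion -/
def Four (Q : QuadraticForm F (ι → F)) (g : Cfsg.isometryGroup F (⇑Q)) : Prop :=
  ∃ t1 t2 t3 t4 : Cfsg.isometryGroup F (⇑Q), (t1 * t1 = 1 ∧ t2 * t2 = 1 ∧ t3 * t3 = 1 ∧ t4 * t4 = 1) ∧
    (del Q t1 = 1 ∧ del Q t2 = 1 ∧ del Q t3 = 1 ∧ del Q t4 = 1) ∧ g = t1 * t2 * t3 * t4

theorem four_of_path {s t c e f : Cfsg.isometryGroup F (⇑Q)} (hs : s * s = 1) (ht : t * t = 1)
    (hc : c * c = 1) (he : e * e = 1) (hf : f * f = 1) (h1 : Commute s c) (h2 : Commute c e)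
    (h3 : Commute e f) (h4 : Commute f t) (d1 : del Q c = del Q s) (d2 : del Q e = del Q s)
    (d3 : del Q f = del Q s) (d4 : del Q t = del Q s) : Four Q (s * t) := by
  have hd : del Q s * del Q s = 1 := by rw [← map_mul, hs, map_one]
  refine ⟨s * c, c * e, e * f, f * t, ⟨sq_mul hs hc h1, sq_mul hc he h2, sq_mul he hf h3,
    sq_mul hf ht h4⟩, ⟨?_, ?_, ?_, ?_⟩, ?_⟩
  · rw [map_mul, d1, hd]
  · rw [map_mul, d1, d2, hd]
  · rw [map_mul, d2, d3, hd]
  · rw [map_mul, d3, d4, hd]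
  · calc s * t = s * 1 * 1 * 1 * t := by group
      _ = s * (c * c) * (e * e) * (f * f) * t := by rw [hc, he, hf]
      _ = s * c * (c * e) * (e * f) * (f * t) := by group

/-- determinant `-1` -/
theorem case_det (h2 : (2 : F) ≠ 0) (hQ : (polarBilin Q).Nondegenerate) (hN : 6 ≤ Fintype.card ι)
    {s t : Cfsg.isometryGroup F (⇑Q)} (hs : s * s = 1) (ht : t * t = 1) (hd : del Q t = del Q s)
    (hd1 : (del Q s).1 = -1) : Four Q (s * t) := by
  obtain ⟨E, hE1, hE2, hE3⟩ := eig h2 hQ hs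
  obtain ⟨E', hE1', hE2', hE3'⟩ := eig h2 hQ ht
  have hds : del Q s = (-1, (del Q s).2) := Prod.ext hd1 rfl
  obtain ⟨u, hu, hu0, hdu⟩ := exists_refl h2 (W := E) (by rw [hE2, finrank_bot]; omega) (del Q s).2
  obtain ⟨v, hv, hv0, hdv⟩ := exists_refl h2 (W := E') (by rw [hE2', finrank_bot]; omega) (del Q s).2
  have hf1 : finrank F (Submodule.span F {u}) ≤ 1 :=
    (finrank_span_le_card ({u} : Set (ι → F))).trans (by simp)
  have hf2 : finrank F (Submodule.span F {v}) ≤ 1 :=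
    (finrank_span_le_card ({v} : Set (ι → F))).trans (by simp)
  have hf3 := Submodule.finrank_add_le_finrank_add_finrank (Submodule.span F {u}) (Submodule.span F {v})
  have hf4 := finrank_Pp hQ (Submodule.span F {u} ⊔ Submodule.span F {v})
  have hf5 : finrank F (Pp Q (Submodule.span F {u} ⊔ Submodule.span F {v}) ⊓
      Pp Q (Pp Q (Submodule.span F {u} ⊔ Submodule.span F {v})) : Submodule F (ι → F)) ≤
      finrank F (Submodule.span F {u} ⊔ Submodule.span F {v} : Submodule F (ι → F)) := by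
    rw [Pp_Pp hQ]
    exact Submodule.finrank_mono inf_le_right
  obtain ⟨w, hw, hw0, hdw⟩ := exists_refl h2 (Q := Q)
    (W := Pp Q (Submodule.span F {u} ⊔ Submodule.span F {v})) (by omega) (del Q s).2
  rw [Pp_sup, le_span] at hw
  exact four_of_path hs ht (reflIso_mul_self _ _ hu0) (reflIso_mul_self _ _ hw0)
    (reflIso_mul_self _ _ hv0) (hE3 u hu hu0).symm (commute_perp hu0 hw0 hw.1).symm
    (commute_perp hv0 hw0 hw.2) (hE3' v hv hv0) (by rw [hdu, ← hds]) (by rw [hdw, ← hds])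
    (by rw [hdv, ← hds]) hd

/-- the projection to the complement of an orthogonal pair -/
theorem exists_proj (h2 : (2 : F) ≠ 0) {u u' : ι → F} (hu : Q u ≠ 0) (hu' : Q u' ≠ 0)
    (huu : polar (⇑Q) u u' = 0) : ∃ ρ : (ι → F) →ₗ[F] (ι → F),
      (∀ x, polar (⇑Q) u (ρ x) = 0) ∧ (∀ x, polar (⇑Q) u' (ρ x) = 0) ∧
      (∀ x, x - ρ x ∈ Submodule.span F {u} ⊔ Submodule.span F {u'}) ∧
      (∀ x, polar (⇑Q) u x = 0 → polar (⇑Q) u' x = 0 → ρ x = x) := by
  let a : (ι → F) →ₗ[F] F := (2 * Q u)⁻¹ • (polarBilin Q u)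
  let a' : (ι → F) →ₗ[F] F := (2 * Q u')⁻¹ • (polarBilin Q u')
  have ha : ∀ x, a x = (2 * Q u)⁻¹ * polar (⇑Q) u x := fun x => rfl
  have ha' : ∀ x, a' x = (2 * Q u')⁻¹ * polar (⇑Q) u' x := fun x => rfl
  have huu' : polar (⇑Q) u' u = 0 := by rw [polar_comm]; exact huu
  have h1 : (2 * Q u) ≠ 0 := mul_ne_zero h2 hu
  have h3 : (2 * Q u') ≠ 0 := mul_ne_zero h2 hu'
  refine ⟨LinearMap.id - a.smulRight u - a'.smulRight u', ?_, ?_, ?_, ?_⟩
  · intro x
    simp only [LinearMap.sub_apply, LinearMap.id_apply, LinearMap.smulRight_apply]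
    rw [polar_sub_right, polar_sub_right, polar_smul_right, polar_smul_right, huu, polar_eq_two, ha,
      smul_eq_mul, smul_eq_mul]
    field_simp
    ring
  · intro x
    simp only [LinearMap.sub_apply, LinearMap.id_apply, LinearMap.smulRight_apply]
    rw [polar_sub_right, polar_sub_right, polar_smul_right, polar_smul_right, huu', polar_eq_two, ha',
      smul_eq_mul, smul_eq_mul]
    field_simp
    ring
  · intro x
    simp only [LinearMap.sub_apply, LinearMap.id_apply, LinearMap.smulRight_apply]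
    rw [show x - (x - a x • u - a' x • u') = a x • u + a' x • u' by abel]
    exact Submodule.add_mem_sup (Submodule.smul_mem _ _ (Submodule.mem_span_singleton_self _))
      (Submodule.smul_mem _ _ (Submodule.mem_span_singleton_self _))
  · intro x hx hx'
    simp only [LinearMap.sub_apply, LinearMap.id_apply, LinearMap.smulRight_apply]
    rw [ha, ha', hx, hx', mul_zero, mul_zero, zero_smul, zero_smul, sub_zero, sub_zero]

/-- a nonsingular vector of `E` with nonsingular projection -/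
theorem exists_good (h2 : (2 : F) ≠ 0) (hQ : (polarBilin Q).Nondegenerate) {E : Submodule F (ι → F)}
    (hE : E ⊓ Pp Q E = ⊥) (hd : 4 ≤ finrank F E) {u u' : ι → F} (hu : Q u ≠ 0) (hu' : Q u' ≠ 0)
    (huu : polar (⇑Q) u u' = 0) : ∃ v ∈ E, ∃ b : ι → F, Q v ≠ 0 ∧ Q b ≠ 0 ∧ polar (⇑Q) u b = 0 ∧
      polar (⇑Q) u' b = 0 ∧ v - b ∈ Submodule.span F {u} ⊔ Submodule.span F {u'} := by
  obtain ⟨ρ, r1, r2, r3, r4⟩ := exists_proj (Q := Q) h2 hu hu' huu
  by_contra hcon
  push Not at hcon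
  have hc : ∀ v ∈ E, Q v ≠ 0 → Q (ρ v) = 0 := by
    intro v hv hv0
    by_contra h
    exact hcon v hv (ρ v) hv0 h (r1 v) (r2 v) (r3 v)
  have hp : ∀ x, ∀ y, polar (⇑Q) (ρ x) (ρ y) = polar (⇑Q) (ρ x) y := by
    intro x y
    have h := r3 y
    obtain ⟨p, hp, q, hq, hpq⟩ := Submodule.mem_sup.1 h
    obtain ⟨α, rfl⟩ := Submodule.mem_span_singleton.1 hp
    obtain ⟨β, rfl⟩ := Submodule.mem_span_singleton.1 hq
    have e : y = α • u + β • u' + ρ y := by rw [hpq]; abel
    nth_rewrite 2 [e]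
    rw [polar_add_right, polar_add_right, polar_smul_right, polar_smul_right, polar_comm (⇑Q) _ u, r1,
      polar_comm (⇑Q) _ u', r2]
    simp
  have hR : ∀ x ∈ E, Q (ρ x) = 0 := by
    intro x hx
    by_cases hx0 : Q x = 0
    · -- a nonsingular vector of `E` orthogonal to `x`
      have hW : Pp Q (Pp Q E ⊔ Submodule.span F {x}) ⊓
          Pp Q (Pp Q (Pp Q E ⊔ Submodule.span F {x})) ≤ Submodule.span F {x} := by
        rw [Pp_Pp hQ]
        rintro z ⟨hz, hz'⟩
        rw [SetLike.mem_coe, Pp_sup, Pp_Pp hQ] at hz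
        obtain ⟨a, ha, w, hw, rfl⟩ := Submodule.mem_sup.1 hz'
        have hwE : w ∈ E := (Submodule.span_singleton_le_iff_mem x E).2 hx hw
        have : a ∈ E ⊓ Pp Q E := ⟨by simpa using E.sub_mem hz.1 hwE, ha⟩
        rw [hE, Submodule.mem_bot] at this
        rw [this, zero_add]
        exact hw
      have h1 := Submodule.finrank_mono hW
      have h3 : finrank F (Submodule.span F {x}) ≤ 1 :=
        (finrank_span_le_card ({x} : Set (ι → F))).trans (by simp)
      have h4 := finrank_Pp hQ (Pp Q E ⊔ Submodule.span F {x})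
      have h5 := Submodule.finrank_add_le_finrank_add_finrank (Pp Q E) (Submodule.span F {x})
      have h6 := finrank_Pp hQ E
      obtain ⟨y, hy, hy0, -⟩ := exists_refl (Q := Q) h2
        (W := Pp Q (Pp Q E ⊔ Submodule.span F {x})) (by omega) 1
      rw [Pp_sup, Pp_Pp hQ] at hy
      have e1 : Q (x + y) = Q y := by rw [map_add', hx0, hy.2]; ring
      have e2 : Q (x + -y) = Q y := by rw [map_add', hx0, polar_neg_right, hy.2, QuadraticMap.map_neg]; ring
      have f1 := hc _ (E.add_mem hx hy.1) (by rw [e1]; exact hy0)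
      have f2 := hc _ (E.add_mem hx (E.neg_mem hy.1)) (by rw [e2]; exact hy0)
      have f3 := hc _ hy.1 hy0
      rw [map_add, map_add', f3] at f1
      rw [map_add, map_neg, map_add', QuadraticMap.map_neg, polar_neg_right, f3] at f2
      have : (2 : F) * Q (ρ x) = 0 := by linear_combination f1 + f2
      exact (mul_eq_zero.1 this).resolve_left h2
    · exact hc x hx hx0
  -- a vector of `E` orthogonal to `u, u'`
  have h4 := finrank_Pp hQ (Pp Q E ⊔ (Submodule.span F {u} ⊔ Submodule.span F {u'}))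
  have h5 := Submodule.finrank_add_le_finrank_add_finrank (Pp Q E)
    (Submodule.span F {u} ⊔ Submodule.span F {u'})
  have h5' := Submodule.finrank_add_le_finrank_add_finrank (Submodule.span F {u}) (Submodule.span F {u'})
  have h6 := finrank_Pp hQ E
  have hf1 : finrank F (Submodule.span F {u}) ≤ 1 :=
    (finrank_span_le_card ({u} : Set (ι → F))).trans (by simp)
  have hf2 : finrank F (Submodule.span F {u'}) ≤ 1 :=
    (finrank_span_le_card ({u'} : Set (ι → F))).trans (by simp)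
  obtain ⟨x, hx, hx0⟩ : ∃ x ∈ Pp Q (Pp Q E ⊔ (Submodule.span F {u} ⊔ Submodule.span F {u'})), x ≠ 0 := by
    by_contra h
    push Not at h
    have : Pp Q (Pp Q E ⊔ (Submodule.span F {u} ⊔ Submodule.span F {u'})) = ⊥ :=
      (Submodule.eq_bot_iff _).2 h
    rw [this, finrank_bot] at h4
    omega
  rw [← sup_assoc, Pp_sup, Pp_sup, Pp_Pp hQ] at hx
  have hρx := r4 x hx.1.2 hx.2
  apply hx0
  have : x ∈ E ⊓ Pp Q E := by
    refine ⟨hx.1.1, fun y hy => ?_⟩
    have e1 := hR _ (E.add_mem hx.1.1 hy)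
    rw [map_add, map_add', hR x hx.1.1, hR y hy, zero_add, zero_add, hp, hρx] at e1
    rw [polar_comm, e1]
  rwa [hE, Submodule.mem_bot] at this

/-- determinant `1` -/
theorem case_one (h2 : (2 : F) ≠ 0) (hQ : (polarBilin Q).Nondegenerate) (hN : 8 ≤ Fintype.card ι)
    {s t : Cfsg.isometryGroup F (⇑Q)} (hs : s * s = 1) (ht : t * t = 1) (hd : del Q t = del Q s)
    (hd1 : (del Q s).1 = 1) : Four Q (s * t) := by
  obtain ⟨E, hE1, hE2, hE3⟩ := eig h2 hQ hs
  obtain ⟨E', hE1', hE2', hE3'⟩ := eig h2 hQ ht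
  have hds : del Q s = (1, (del Q s).2) := Prod.ext hd1 rfl
  -- `u, u'`
  obtain ⟨u, hu, hu0, hdu⟩ := exists_refl h2 (W := E) (by rw [hE2, finrank_bot]; omega) 1
  obtain ⟨E₁, k1, k2, k3, k4⟩ := cut h2 E hu hu0
  rw [hE2, le_bot_iff] at k3
  obtain ⟨u', hu', hu0', hdu'⟩ := exists_refl h2 (W := E₁) (by rw [k3, finrank_bot]; omega) (del Q s).2
  have huu := k2 u' hu'
  -- `v, v'`
  obtain ⟨v, hv, b, hv0, hb0, hub, hub', hvb⟩ := exists_good h2 hQ hE2' (by omega) hu0 hu0' huu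
  obtain ⟨E₁', l1, l2, l3, l4⟩ := cut h2 E' hv hv0
  rw [hE2', le_bot_iff] at l3
  obtain ⟨v', hv', hv0', hdv'⟩ := exists_refl h2 (W := E₁') (by rw [l3, finrank_bot]; omega)
    ((del Q (reflIso Q v hv0)).2 * (del Q s).2)
  have hvv := l2 v' hv'
  -- the space spanned by `u, u', v`
  have n0 : (⊥ : Submodule F (ι → F)) ⊓ Pp Q ⊥ = ⊥ := bot_inf_eq _
  have n1 := glue h2 n0 (b := u) (fun y hy => by
    rw [(Submodule.mem_bot F).1 hy, polar_zero_left]) hu0
  rw [bot_sup_eq] at n1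
  have n2 := glue h2 n1 (b := u') (le_span.2 huu) hu0'
  have n3 := glue h2 n2 (b := b) (Pp_sup.2 ⟨le_span.2 hub, hub'⟩) hb0
  set U := Submodule.span F {u} ⊔ Submodule.span F {u'} ⊔ Submodule.span F {b} with hU
  have huU : u ∈ U := Submodule.mem_sup_left (Submodule.mem_sup_left (Submodule.mem_span_singleton_self u))
  have huU' : u' ∈ U := Submodule.mem_sup_left (Submodule.mem_sup_right (Submodule.mem_span_singleton_self u'))
  have hbU : b ∈ U := Submodule.mem_sup_right (Submodule.mem_span_singleton_self b)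
  have hvU : v ∈ U := by
    have : v = (v - b) + b := by abel
    rw [this]
    exact U.add_mem (Submodule.mem_sup_left hvb) hbU
  have hf1 : finrank F (Submodule.span F {u}) ≤ 1 :=
    (finrank_span_le_card ({u} : Set (ι → F))).trans (by simp)
  have hf2 : finrank F (Submodule.span F {u'}) ≤ 1 :=
    (finrank_span_le_card ({u'} : Set (ι → F))).trans (by simp)
  have hf3 : finrank F (Submodule.span F {b}) ≤ 1 :=
    (finrank_span_le_card ({b} : Set (ι → F))).trans (by simp)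
  have hf4 : finrank F (Submodule.span F {v'}) ≤ 1 :=
    (finrank_span_le_card ({v'} : Set (ι → F))).trans (by simp)
  have hg1 := Submodule.finrank_add_le_finrank_add_finrank (Submodule.span F {u}) (Submodule.span F {u'})
  have hg2 := Submodule.finrank_add_le_finrank_add_finrank
    (Submodule.span F {u} ⊔ Submodule.span F {u'}) (Submodule.span F {b})
  have hg3 := Submodule.finrank_add_le_finrank_add_finrank U (Submodule.span F {v'})
  have hg4 := finrank_Pp hQ (U ⊔ Submodule.span F {v'})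
  rw [← hU] at hg2
  have hrad : finrank F (Pp Q (U ⊔ Submodule.span F {v'}) ⊓
      Pp Q (Pp Q (U ⊔ Submodule.span F {v'})) : Submodule F (ι → F)) ≤ 1 := by
    rw [Pp_Pp hQ]
    have i1 : (Pp Q (U ⊔ Submodule.span F {v'}) ⊓ (U ⊔ Submodule.span F {v'})) ⊓ U = ⊥ := by
      rw [eq_bot_iff]
      rintro z ⟨hz, hz'⟩
      have : z ∈ U ⊓ Pp Q U := ⟨hz', (Pp_sup.1 hz.1).1⟩
      rwa [n3] at this
    have i2 := Submodule.finrank_sup_add_finrank_inf_eq
      (Pp Q (U ⊔ Submodule.span F {v'}) ⊓ (U ⊔ Submodule.span F {v'})) U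
    rw [i1, finrank_bot, add_zero] at i2
    have i3 : finrank F (Pp Q (U ⊔ Submodule.span F {v'}) ⊓ (U ⊔ Submodule.span F {v'}) ⊔ U :
        Submodule F (ι → F)) ≤ finrank F (U ⊔ Submodule.span F {v'} : Submodule F (ι → F)) :=
      Submodule.finrank_mono (sup_le inf_le_right le_sup_left)
    omega
  -- `w, w'`
  obtain ⟨w, hw, hw0, hdw⟩ := exists_refl (Q := Q) h2 (W := Pp Q (U ⊔ Submodule.span F {v'})) (by omega) 1
  obtain ⟨W₁, m1, m2, m3, m4⟩ := cut h2 (Pp Q (U ⊔ Submodule.span F {v'})) hw hw0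
  have m5 := Submodule.finrank_mono m3
  obtain ⟨w', hw', hw0', hdw'⟩ := exists_refl (Q := Q) h2 (W := W₁) (by omega) (del Q s).2
  have hww := m2 w' hw'
  have hw'' := m1 hw'
  rw [Pp_sup] at hw hw''
  have cc : ∀ {a a' x x' : ι → F} (ha : Q a ≠ 0) (ha' : Q a' ≠ 0) (hx : Q x ≠ 0) (hx' : Q x' ≠ 0),
      polar (⇑Q) a x = 0 → polar (⇑Q) a x' = 0 → polar (⇑Q) a' x = 0 → polar (⇑Q) a' x' = 0 →
      Commute (reflIso Q a ha * reflIso Q a' ha') (reflIso Q x hx * reflIso Q x' hx') := by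
    intro a a' x x' ha ha' hx hx' h1 h3 h4 h5
    exact Commute.mul_left (Commute.mul_right (commute_perp ha hx h1).symm (commute_perp ha hx' h3).symm)
      (Commute.mul_right (commute_perp ha' hx h4).symm (commute_perp ha' hx' h5).symm)
  have hsq : ∀ {a a' : ι → F} (ha : Q a ≠ 0) (ha' : Q a' ≠ 0), polar (⇑Q) a a' = 0 →
      (reflIso Q a ha * reflIso Q a' ha') * (reflIso Q a ha * reflIso Q a' ha') = 1 := by
    intro a a' ha ha' h
    exact sq_mul (reflIso_mul_self _ _ ha) (reflIso_mul_self _ _ ha') (commute_perp ha ha' h).symm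
  have hsgn : ∀ x : ℤˣ, x * x = 1 := fun x => Int.units_mul_self x
  refine four_of_path (c := reflIso Q u hu0 * reflIso Q u' hu0') (e := reflIso Q w hw0 * reflIso Q w' hw0')
    (f := reflIso Q v hv0 * reflIso Q v' hv0') hs ht (hsq hu0 hu0' huu) (hsq hw0 hw0' hww)
    (hsq hv0 hv0' hvv) ?_ ?_ ?_ ?_ ?_ ?_ ?_ hd
  · exact ((hE3 u hu hu0).mul_left (hE3 u' (k1 hu') hu0')).symm
  · exact cc hu0 hu0' hw0 hw0' (hw.1 u huU) (hw''.1 u huU) (hw.1 u' huU') (hw''.1 u' huU')
  · exact (cc hv0 hv0' hw0 hw0' (hw.1 v hvU) (hw''.1 v hvU) hw.2 hw''.2).symm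
  · exact (hE3' v hv hv0).mul_left (hE3' v' (l1 hv') hv0')
  · rw [map_mul, hdu, hdu', hds]
    simp
  · rw [map_mul, hdw, hdw', hds]
    simp
  · rw [map_mul, hdv', hds]
    apply Prod.ext
    · have : (del Q (reflIso Q v hv0)).1 = -1 := by
        classical
        rw [del_refl h2]
      rw [Prod.fst_mul, this]
      simp
    · rw [Prod.snd_mul]
      show (del Q (reflIso Q v hv0)).2 * ((del Q (reflIso Q v hv0)).2 * (del Q s).2) = (del Q s).2
      rw [← mul_assoc, hsgn, one_mul]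

/-- **every element of `Ω` is a product of four involutions** (odd characteristic, dimension at least 7) -/
theorem four (h2 : (2 : F) ≠ 0) (hQ : (polarBilin Q).Nondegenerate) (hN : 7 ≤ Fintype.card ι)
    (g : Cfsg.isometryGroup F (⇑Q)) (hg : del Q g = 1) : Four Q g := by
  obtain ⟨s, t, hs, ht, rfl, -, -⟩ := exists_fac_grp h2 hQ g
  have hdel : del Q t = del Q s := by
    have e1 : del Q s * del Q t = 1 := by rw [← map_mul, hg]
    have e2 : del Q s * del Q s = 1 := by rw [← map_mul, hs, map_one]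
    rw [← e2] at e1
    exact mul_left_cancel e1
  rcases del_fst_cases h2 hQ s with h | h
  · by_cases hN8 : 8 ≤ Fintype.card ι
    · exact case_one h2 hQ hN8 hs ht hdel h
    · have hN7 : Fintype.card ι = 7 := by omega
      have hneg : ∀ x : Cfsg.isometryGroup F (⇑Q), x * x = 1 → negI Q * x * (negI Q * x) = 1 := by
        intro x hx
        rw [show negI Q * x * (negI Q * x) = negI Q * (x * negI Q) * x by group, ← negI_comm,
          show negI Q * (negI Q * x) * x = (negI Q * negI Q) * (x * x) by group, negI_mul_negI, hx, one_mul]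
      have h4 : (del Q (negI Q)).1 = -1 := by
        have h5 := del_fst h2 hQ _ (negI Q) negI_mul_negI rfl
        have h6 : Em Q (negI Q) = ⊤ := by
          rw [eq_top_iff]
          intro x _
          rw [mem_Em, act_negI]
        rw [h5, h6, finrank_top, finrank_fintype_fun_eq_card, hN7]
        exact Odd.neg_one_pow (by decide)
      have := case_det h2 hQ (by omega) (hneg s hs) (hneg t ht) (by rw [map_mul, map_mul, hdel])
        (by rw [map_mul, Prod.fst_mul, h4, h, mul_one])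
      rw [show negI Q * s * (negI Q * t) = negI Q * (s * negI Q) * t by group, ← negI_comm,
          show negI Q * (negI Q * s) * t = (negI Q * negI Q) * (s * t) by group, negI_mul_negI,
          one_mul] at this
      exact this
  · exact case_det h2 hQ (by omega) hs ht hdel h

end G

/-- the projective group -/
theorem i4_omega {ι : Type} [Fintype ι] [DecidableEq ι] {F : Type u} [Field F] [Finite F]
    {Q : QuadraticForm F (ι → F)} (h2 : (2 : F) ≠ 0) (hQ : (polarBilin Q).Nondegenerate)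
    (hN : 7 ≤ Fintype.card ι) : I4 (Cfsg.POmega F ⇑Q) := by
  have key : ∀ g : Cfsg.isometryGroup F ⇑Q, g ∈ Cfsg.Omega F ⇑Q ↔ del Q g = 1 := by
    intro g
    rw [mem_Omega_iff h2 _ hQ (by omega) one_ne_zero]
    exact (detSpinor_eq_one_iff _ _ g).symm
  refine I4.quot (Z := Subgroup.center (Cfsg.Omega F ⇑Q)) fun g => ?_
  obtain ⟨g, hg⟩ := g
  obtain ⟨t1, t2, t3, t4, ⟨a1, a2, a3, a4⟩, ⟨d1, d2, d3, d4⟩, h⟩ := four h2 hQ hN g ((key g).1 hg)
  refine ⟨⟨t1, (key _).2 d1⟩, ⟨t2, (key _).2 d2⟩, ⟨t3, (key _).2 d3⟩, ⟨t4, (key _).2 d4⟩, 1,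
    ?_, ?_, ?_, ?_, Subgroup.one_mem _, ?_⟩
  · rw [show (⟨t1, (key _).2 d1⟩ : Cfsg.Omega F ⇑Q) * ⟨t1, (key _).2 d1⟩ = 1 from Subtype.ext a1]
    exact Subgroup.one_mem _
  · rw [show (⟨t2, (key _).2 d2⟩ : Cfsg.Omega F ⇑Q) * ⟨t2, (key _).2 d2⟩ = 1 from Subtype.ext a2]
    exact Subgroup.one_mem _
  · rw [show (⟨t3, (key _).2 d3⟩ : Cfsg.Omega F ⇑Q) * ⟨t3, (key _).2 d3⟩ = 1 from Subtype.ext a3]
    exact Subgroup.one_mem _
  · rw [show (⟨t4, (key _).2 d4⟩ : Cfsg.Omega F ⇑Q) * ⟨t4, (key _).2 d4⟩ = 1 from Subtype.ext a4]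
    exact Subgroup.one_mem _
  · rw [mul_one]
    exact Subtype.ext h

theorem two_ne_zero_of_odd {F : Type*} [Field F] [Fintype F] (hodd : Odd (Fintype.card F)) :
    (2 : F) ≠ 0 := by
  intro h
  have h1 : ringChar F = 2 := by
    have h1 : ((2 : ℕ) : F) = 0 := by exact_mod_cast h
    have h3 : ringChar F ∣ 2 := (ringChar.spec F 2).1 h1
    have h4 : (ringChar F).Prime := CharP.char_is_prime F (ringChar F)
    exact (Nat.prime_dvd_prime_iff_eq h4 Nat.prime_two).1 h3
  have h5 : Fintype.card F % 2 = 0 := FiniteField.even_card_of_char_two h1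
  rw [Nat.odd_iff] at hodd
  omega

open Cfsg.Agent.LieClassical.OmegaReindex

theorem i4_poodd_form {F : Type*} [Field F] [Fintype F] (h2 : (2 : F) ≠ 0) {m : ℕ} (hm : 3 ≤ m) :
    I4 (Cfsg.POmega F (Cfsg.quadFormOdd m F)) := by
  rw [← coe_quadOdd]
  refine i4_omega h2 (quadOdd_nondegenerate h2) ?_
  rw [Fintype.card_sum, Fintype.card_sum, Fintype.card_fin, Fintype.card_unit]
  omega

/-- **row `PΩ_{2m+1}(q)`** -/
theorem i4_poodd {G : Type*} [Group G] (h : Cfsg.IsPOmegaOdd G) : I4 G := by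
  obtain ⟨F, _, _, m, hm, hodd, ⟨e⟩⟩ := h
  exact I4.congr e.symm (i4_poodd_form (two_ne_zero_of_odd hodd) hm)

/-- **row `PΩ⁺_{2m}(q)`, `q` odd** -/
theorem i4_poplus_odd {F : Type*} [Field F] [Fintype F] (h2 : (2 : F) ≠ 0) {m : ℕ} (hm : 4 ≤ m) :
    I4 (Cfsg.POmega F (Cfsg.quadFormPlus m F)) := by
  rw [← coe_quadPlus]
  refine i4_omega h2 quadPlus_nondegenerate ?_
  rw [Fintype.card_sum, Fintype.card_fin]
  omega

/-- **row `PΩ⁻_{2m}(q)`, `q` odd** -/
theorem i4_pominus_odd {F : Type*} [Field F] [Fintype F] (h2 : (2 : F) ≠ 0) {m : ℕ} (hm : 4 ≤ m)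
    {a b : F} (hab : ∀ z₁ z₂ : F, z₁ ^ 2 + a * z₁ * z₂ + b * z₂ ^ 2 = 0 → z₁ = 0 ∧ z₂ = 0) :
    I4 (Cfsg.POmega F (Cfsg.quadFormMinus (m - 1) F a b)) := by
  rw [← coe_quadMinus]
  refine i4_omega h2 (quadMinus_nondegenerate hab) ?_
  rw [Fintype.card_sum, Fintype.card_sum, Fintype.card_fin, Fintype.card_fin]
  omega

end Cfsg.Agent.H146.Inv4
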